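import Cfsg.Agent.Lib.Core.Coprime
import Mathlib.GroupTheory.Abelianization.Defs
import Mathlib.GroupTheory.Nilpotent
import Mathlib.Algebra.Field.ZMod

/-!
Owner: helper4.  The order formula for two commuting operators of prime order `p` whose other products are fixed
point free: `|K| = |C_K(s)| * |C_K(t)|` (O'Nan TI theorem, part B).
-/

set_option autoImplicit false
set_option linter.all false

open Subgroup

namespace CfsgLib.ONanTI.Formula

variable {G : Type*} [Group G] [Finite G] {p : ℕ} [hp : Fact p.Prime] {s t : G}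

omit [Finite G] in
theorem pow_val_add (hs : s ^ p = 1) (a b : ZMod p) : s ^ (a + b).val = s ^ a.val * s ^ b.val := by
  rw [ZMod.val_add, ← pow_eq_pow_mod _ hs, pow_add]

omit [Finite G] in
theorem conj_mem_of_commute {K : Subgroup G} {a e : G} (ha : a ∈ normalizer (K : Set G))
    (hae : a * e = e * a) {x : G} (hx : x ∈ K ⊓ centralizer ({e} : Set G)) :
    a * x * a⁻¹ ∈ K ⊓ centralizer ({e} : Set G) := by
  refine ⟨(mem_normalizer_iff.1 ha x).1 hx.1, mem_centralizer_singleton_iff.2 ?_⟩
  have h1 := mem_centralizer_singleton_iff.1 hx.2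
  have h2 : a⁻¹ * e = e * a⁻¹ := by
    rw [inv_mul_eq_iff_eq_mul, ← mul_assoc, hae, mul_inv_cancel_right]
  calc a * x * a⁻¹ * e = a * x * (e * a⁻¹) := by rw [mul_assoc, h2]
    _ = a * (e * x) * a⁻¹ := by rw [← h1]; group
    _ = e * (a * x * a⁻¹) := by rw [← mul_assoc a e x, hae]; group

/-- The factorisation of a `q`-group. -/
theorem factor (hs : s ^ p = 1) (ht : t ^ p = 1) (hst : s * t = t * s) :
    ∀ (N : ℕ) (Q : Subgroup G), Nat.card Q = N → Group.IsSolvable Q → ¬ p ∣ Nat.card Q →
      s ∈ normalizer (Q : Set G) → t ∈ normalizer (Q : Set G) →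
      (∀ i j : ℕ, ¬ p ∣ i → ¬ p ∣ j → Q ⊓ centralizer ({s ^ i * t ^ j} : Set G) = ⊥) →
      ∀ k ∈ Q, ∃ a ∈ Q ⊓ centralizer ({s} : Set G), ∃ b ∈ Q ⊓ centralizer ({t} : Set G), k = a * b := by
  intro N
  induction N using Nat.strong_induction_on with
  | _ N ih =>
    intro Q hN hsol hpQ hsQ htQ hfpf k hk
    classical
    rcases eq_or_ne Q ⊥ with hQ | hQ
    · rw [hQ, mem_bot] at hk
      exact ⟨1, one_mem _, 1, one_mem _, by rw [hk, mul_one]⟩
    haveI := hsol
    haveI : Nontrivial Q := Q.nontrivial_iff_ne_bot.2 hQ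
    set M : Subgroup G := ⁅Q, Q⁆ with hM
    have hMeq : M = (_root_.commutator Q).map Q.subtype := (map_subtype_commutator Q).symm
    have hMQ : M ≤ Q := hMeq ▸ map_subtype_le _
    have hMlt : Nat.card M < N := by
      have hne : _root_.commutator Q ≠ ⊤ := (Group.IsSolvable.commutator_lt_top_of_nontrivial Q).ne
      rw [hMeq, card_map_of_injective Q.subtype_injective, ← hN]
      exact lt_of_le_of_ne (card_le_card_group _) fun e => hne (eq_top_of_card_eq _ e)
    have hMn : ∀ a, a ∈ normalizer (Q : Set G) → a ∈ normalizer (M : Set G) := fun a ha => by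
      rw [CfsgLib.Core.mem_normalizer_iff_conj_smul_eq, hM, Subgroup.pointwise_smul_def]
      show (⁅Q, Q⁆).map (MulAut.conj a).toMonoidHom = ⁅Q, Q⁆
      have hQa : Q.map (MulAut.conj a).toMonoidHom = Q := CfsgLib.Core.mem_normalizer_iff_conj_smul_eq.1 ha
      rw [map_commutator, hQa]
    -- the operators on the abelianisation
    let A : Subgroup G := closure {s, t}
    have hAQ : A ≤ normalizer (Q : Set G) := (closure_le _).2 (by rintro x (rfl | rfl) <;> assumption)
    let α : ∀ a : A, Abelianization Q →* Abelianization Q := fun a => Abelianization.map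
      { toFun := fun q : Q => (⟨(a : G) * q * (a : G)⁻¹, (mem_normalizer_iff.1 (hAQ a.2) _).1 q.2⟩ : Q)
        map_one' := Subtype.ext (by simp)
        map_mul' := fun x y => Subtype.ext (by
          show (a : G) * ((x * y : Q) : G) * (a : G)⁻¹ = (a : G) * x * (a : G)⁻¹ * ((a : G) * y * (a : G)⁻¹)
          rw [Subgroup.coe_mul]; group) }
    have hα : ∀ (a : A) (q : Q), α a (Abelianization.of q) =
        Abelianization.of ⟨(a : G) * q * (a : G)⁻¹, (mem_normalizer_iff.1 (hAQ a.2) _).1 q.2⟩ :=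
      fun a q => rfl
    have hαmul : ∀ (a b : A) (c : Abelianization Q), α (a * b) c = α a (α b c) := by
      intro a b c
      obtain ⟨q, rfl⟩ := QuotientGroup.mk_surjective c
      show α (a * b) (Abelianization.of q) = α a (α b (Abelianization.of q))
      rw [hα, hα, hα]
      congr 1
      refine Subtype.ext ?_
      show ((a * b : A) : G) * q * ((a * b : A) : G)⁻¹ = (a : G) * ((b : G) * q * (b : G)⁻¹) * (a : G)⁻¹
      rw [Subgroup.coe_mul]; group
    let sA : A := ⟨s, subset_closure (Or.inl rfl)⟩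
    let tA : A := ⟨t, subset_closure (Or.inr rfl)⟩
    -- fixed classes lift to centralising elements
    have hlift : ∀ e : A, (e : G) ^ p = 1 → ∀ c : Abelianization Q, α e c = c →
        ∃ r : Q, (r : G) ∈ centralizer ({(e : G)} : Set G) ∧ Abelianization.of r = c := by
      intro e he c hc
      obtain ⟨q, rfl⟩ := QuotientGroup.mk_surjective c
      have hmem : ∀ x : Q, Abelianization.of x = 1 ↔ (x : G) ∈ M := fun x => by
        rw [← MonoidHom.mem_ker, Abelianization.ker_of, hMeq]
        exact ⟨fun h => mem_map_of_mem _ h, fun h => by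
          obtain ⟨y, hy, e⟩ := h; rwa [← Subtype.ext e]⟩
      have hfix : ∀ a ∈ zpowers (e : G), (q : G)⁻¹ * (a * q * a⁻¹) ∈ M := by
        intro a ha
        rw [← mem_powers_iff_mem_zpowers] at ha
        obtain ⟨i, rfl⟩ := ha
        have hi : α (e ^ i) (Abelianization.of q) = Abelianization.of q := by
          induction i with
          | zero =>
            rw [pow_zero, hα]
            congr 1
            exact Subtype.ext (by simp)
          | succ i ihi => rw [pow_succ', hαmul, ihi]; exact hc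
        rw [hα] at hi
        have h1 : (((q⁻¹ * ⟨((e ^ i : A) : G) * q * ((e ^ i : A) : G)⁻¹,
            (mem_normalizer_iff.1 (hAQ (e ^ i).2) _).1 q.2⟩) : Q) : G) ∈ M := by
          rw [← hmem, map_mul, map_inv, hi, inv_mul_cancel]
        simpa using h1
      have hcard : Nat.card (zpowers (e : G)) ∣ p := by
        rw [Nat.card_zpowers]; exact orderOf_dvd_of_pow_eq_one he
      obtain ⟨m, hm, hcen⟩ := CfsgLib.Core.exists_centralizing_in_coset (A := zpowers (e : G)) (N := M)
        (zpowers_le.2 (hMn _ (hAQ e.2)))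
        ((hp.out.coprime_iff_not_dvd.2 fun h => hpQ (h.trans (card_dvd_of_le hMQ))).coprime_dvd_left hcard)
        (Or.inl (Group.isSolvable_of_comm fun a b => by
          obtain ⟨i, hi⟩ := mem_zpowers_iff.1 a.2
          obtain ⟨j, hj⟩ := mem_zpowers_iff.1 b.2
          exact Subtype.ext (by
            rw [Subgroup.coe_mul, Subgroup.coe_mul, ← hi, ← hj]; exact zpow_mul_comm _ i j))) hfix
      refine ⟨q * ⟨m, hMQ hm⟩, mem_centralizer_singleton_iff.2
        (mem_centralizer_iff.1 hcen _ (mem_zpowers _)).symm, ?_⟩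
      rw [map_mul, (hmem ⟨m, hMQ hm⟩).2 hm, mul_one]
      rfl
    have htriv : ∀ (i j : ℕ), ¬ p ∣ i → ¬ p ∣ j → ∀ c, α (sA ^ i * tA ^ j) c = c → c = 1 := by
      intro i j hi hj c hc
      have he : ((sA ^ i * tA ^ j : A) : G) ^ p = 1 := by
        rw [Subgroup.coe_mul, SubgroupClass.coe_pow, SubgroupClass.coe_pow,
          (show Commute (s ^ i) (t ^ j) from (show Commute s t from hst).pow_pow i j).mul_pow,
          ← pow_mul, ← pow_mul, mul_comm i, mul_comm j, pow_mul, pow_mul, hs, ht, one_pow, one_pow, mul_one]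
      obtain ⟨r, hr, rfl⟩ := hlift _ he c hc
      have h1 : (r : G) ∈ Q ⊓ centralizer ({s ^ i * t ^ j} : Set G) := ⟨r.2, hr⟩
      rw [hfpf i j hi hj, mem_bot] at h1
      rw [show r = 1 from Subtype.ext h1, map_one]
    -- the orbit of the class of `k`
    let c : ZMod p → ZMod p → A := fun i j => sA ^ i.val * tA ^ j.val
    have hsA : sA ^ p = 1 := Subtype.ext (by rw [SubgroupClass.coe_pow]; exact hs)
    have htA : tA ^ p = 1 := Subtype.ext (by rw [SubgroupClass.coe_pow]; exact ht)
    have hc : ∀ i j i' j', c (i + i') (j + j') = c i j * c i' j' := fun i j i' j' => by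
      have hcomm : Commute sA tA := Subtype.ext hst
      show sA ^ (i + i').val * tA ^ (j + j').val = _
      rw [pow_val_add hsA, pow_val_add htA]
      show _ = sA ^ i.val * tA ^ j.val * (sA ^ i'.val * tA ^ j'.val)
      rw [mul_assoc, ← mul_assoc (sA ^ i'.val), (hcomm.pow_pow i'.val j.val).eq]
      group
    let k0 : Abelianization Q := Abelianization.of ⟨k, hk⟩
    let f : ZMod p → ZMod p → Abelianization Q := fun i j => α (c i j) k0
    have hshift : ∀ i j i' j', α (c i j) (f i' j') = f (i + i') (j + j') := fun i j i' j' => by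
      show α (c i j) (α (c i' j') k0) = α (c (i + i') (j + j')) k0
      rw [← hαmul, hc]
    have hv1 : (1 : ZMod p).val = 1 := ZMod.val_one p
    have hv0 : (0 : ZMod p).val = 0 := ZMod.val_zero
    have hcs : c 1 0 = sA := by show sA ^ _ * tA ^ _ = _; rw [hv1, hv0, pow_one, pow_zero, mul_one]
    have hct : c 0 1 = tA := by show sA ^ _ * tA ^ _ = _; rw [hv1, hv0, pow_one, pow_zero, one_mul]
    have hnd : ∀ x : ZMod p, x ≠ 0 → ¬ p ∣ x.val := fun x hx hd => hx (by
      rw [← ZMod.natCast_zmod_val x]; exact (ZMod.natCast_eq_zero_iff _ _).2 hd)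
    let Pt := ∏ j, f 0 j
    let Ps := ∏ i, f i 0
    have hPt : α tA Pt = Pt := by
      rw [map_prod]
      refine Fintype.prod_equiv (Equiv.addLeft 1) _ _ fun j => ?_
      rw [← hct, hshift, zero_add]; rfl
    have hPs : α sA Ps = Ps := by
      rw [map_prod]
      refine Fintype.prod_equiv (Equiv.addLeft 1) _ _ fun i => ?_
      rw [← hcs, hshift, zero_add]; rfl
    have hline : ∀ m : ZMod p, m ≠ 0 → (∏ i, f i (m * i)) = 1 := by
      intro m hm
      refine htriv 1 m.val (fun h => hp.out.ne_one (Nat.dvd_one.1 h)) (hnd m hm) _ ?_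
      rw [show sA ^ 1 * tA ^ m.val = c 1 m by show _ = sA ^ _ * tA ^ _; rw [hv1]]
      rw [map_prod]
      refine Fintype.prod_equiv (Equiv.addLeft 1) _ _ fun i => ?_
      rw [hshift]
      show f (1 + i) (m + m * i) = f (1 + i) (m * (1 + i))
      rw [mul_add, mul_one]
    have hall : (∏ i, ∏ j, f i j) = 1 := by
      refine htriv 1 1 (fun h => hp.out.ne_one (Nat.dvd_one.1 h))
        (fun h => hp.out.ne_one (Nat.dvd_one.1 h)) _ ?_
      rw [show sA ^ 1 * tA ^ 1 = c 1 1 by show _ = sA ^ _ * tA ^ _; rw [hv1]]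
      rw [map_prod]
      refine Fintype.prod_equiv (Equiv.addLeft 1) _ _ fun i => ?_
      rw [map_prod]
      refine Fintype.prod_equiv (Equiv.addLeft 1) _ _ fun j => ?_
      rw [hshift]; rfl
    have hkey : k0 ^ p = Ps * Pt := by
      have h1 : (∏ m, ∏ i, f i (m * i)) = Ps := by
        rw [Fintype.prod_eq_single (0 : ZMod p) hline]
        exact Finset.prod_congr rfl fun i _ => by rw [zero_mul]
      rw [Finset.prod_comm, ← Finset.mul_prod_erase _ _ (Finset.mem_univ (0 : ZMod p))] at h1
      rw [← Finset.mul_prod_erase _ _ (Finset.mem_univ (0 : ZMod p))] at hall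
      have h0 : (∏ m : ZMod p, f 0 (m * 0)) = k0 ^ p := by
        rw [Finset.prod_congr rfl fun m _ => show f 0 (m * 0) = k0 by
          rw [mul_zero]
          show α (sA ^ _ * tA ^ _) k0 = k0
          rw [hv0, pow_zero, pow_zero, mul_one]
          show α 1 (Abelianization.of _) = _
          rw [hα]; congr 1; exact Subtype.ext (by simp),
          Finset.prod_const, Finset.card_univ, ZMod.card]
      have he : (∏ i ∈ Finset.univ.erase (0 : ZMod p), ∏ m, f i (m * i)) =
          ∏ i ∈ Finset.univ.erase (0 : ZMod p), ∏ j, f i j :=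
        Finset.prod_congr rfl fun i hi =>
          Fintype.prod_equiv (Equiv.mulRight₀ i (Finset.mem_erase.1 hi).1) _ _ fun m => rfl
      rw [h0, he] at h1
      have h2 : (∏ i ∈ Finset.univ.erase (0 : ZMod p), ∏ j, f i j) = Pt⁻¹ := eq_inv_of_mul_eq_one_right hall
      rw [h2, mul_inv_eq_iff_eq_mul] at h1
      exact h1
    -- back to the group
    let HS : Subgroup (Abelianization Q) :=
      ((centralizer ({s} : Set G)).subgroupOf Q).map Abelianization.of ⊔
        ((centralizer ({t} : Set G)).subgroupOf Q).map Abelianization.of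
    have hkp : k0 ^ p ∈ HS := by
      obtain ⟨rs, hrs, ers⟩ := hlift sA hs Ps hPs
      obtain ⟨rt, hrt, ert⟩ := hlift tA ht Pt hPt
      rw [hkey, ← ers, ← ert]
      exact mul_mem (mem_sup_left ⟨rs, mem_subgroupOf.2 hrs, rfl⟩) (mem_sup_right ⟨rt, mem_subgroupOf.2 hrt, rfl⟩)
    have hk0 : k0 ∈ HS := by
      have hcop : (orderOf k0).Coprime p := by
        refine ((hp.out.coprime_iff_not_dvd.2 hpQ).symm).coprime_dvd_left ?_
        exact (orderOf_map_dvd Abelianization.of _).trans (orderOf_dvd_natCard (⟨k, hk⟩ : Q))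
      obtain ⟨m, hm⟩ := exists_pow_eq_self_of_coprime hcop.symm
      rw [← hm]
      exact pow_mem hkp m
    obtain ⟨_, ⟨a, ha, rfl⟩, _, ⟨b, hb, rfl⟩, hab⟩ := mem_sup.1 hk0
    have hm : ((a : G) * b)⁻¹ * k ∈ M := by
      have h1 : Abelianization.of ((a * b)⁻¹ * ⟨k, hk⟩ : Q) = 1 := by
        rw [map_mul, map_inv, map_mul, hab]; exact inv_mul_cancel k0
      rw [← MonoidHom.mem_ker, Abelianization.ker_of] at h1
      rw [hMeq]
      exact ⟨_, h1, rfl⟩
    have hm' : (b : G) * (((a : G) * b)⁻¹ * k) * (b : G)⁻¹ ∈ M :=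
      (mem_normalizer_iff.1 (hMn _ (le_normalizer b.2)) _).1 hm
    obtain ⟨a', ha', b', hb', hmab⟩ := ih _ hMlt M rfl (CfsgLib.Core.isSolvable_of_le hsol hMQ) (fun h => hpQ (h.trans (card_dvd_of_le hMQ))) (hMn _ hsQ) (hMn _ htQ)
      (fun i j hi hj => le_bot_iff.1 ((inf_le_inf_right _ hMQ).trans (hfpf i j hi hj).le)) _ hm'
    refine ⟨a * a', mul_mem ⟨a.2, ha⟩ ⟨hMQ ha'.1, ha'.2⟩, b' * b, mul_mem ⟨hMQ hb'.1, hb'.2⟩ ⟨b.2, hb⟩, ?_⟩
    calc k = (a : G) * ((b : G) * (((a : G) * b)⁻¹ * k) * (b : G)⁻¹) * b := by group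
      _ = _ := by rw [hmab]; group

/-- The order formula. -/
theorem card_eq (K : Subgroup G) (hs : s ^ p = 1) (ht : t ^ p = 1) (hst : s * t = t * s)
    (hsK : s ∈ normalizer (K : Set G)) (htK : t ∈ normalizer (K : Set G)) (hpK : ¬ p ∣ Nat.card K)
    (hfpf : ∀ i j : ℕ, ¬ p ∣ i → ¬ p ∣ j → K ⊓ centralizer ({s ^ i * t ^ j} : Set G) = ⊥) :
    Nat.card K =
      Nat.card (K ⊓ centralizer ({s} : Set G) : Subgroup G) *
        Nat.card (K ⊓ centralizer ({t} : Set G) : Subgroup G) := by
  classical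
  let A : Subgroup G := closure {s, t}
  have hA : IsPGroup p A := by
    have hall : ∀ a ∈ A, a ^ p = 1 ∧ a * s = s * a ∧ a * t = t * a := by
      intro a ha
      induction ha using closure_induction with
      | mem x hx =>
        rcases hx with rfl | rfl
        · exact ⟨hs, rfl, hst⟩
        · exact ⟨ht, hst.symm, rfl⟩
      | one => simp
      | mul x y hx hy ex ey =>
        refine ⟨?_, ?_, ?_⟩
        · have hxy : Commute x y := by
            have hle : A ≤ centralizer ({x} : Set G) := (closure_le _).2 (by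
              rintro z (rfl | rfl) <;> rw [SetLike.mem_coe, mem_centralizer_singleton_iff]
              · exact ex.2.1.symm
              · exact ex.2.2.symm)
            exact (mem_centralizer_singleton_iff.1 (hle hy)).symm
          rw [hxy.mul_pow, ex.1, ey.1, one_mul]
        · rw [mul_assoc, ey.2.1, ← mul_assoc, ex.2.1, mul_assoc]
        · rw [mul_assoc, ey.2.2, ← mul_assoc, ex.2.2, mul_assoc]
      | inv x _ ex =>
        refine ⟨by rw [inv_pow, ex.1, inv_one], ?_, ?_⟩
        · rw [inv_mul_eq_iff_eq_mul, ← mul_assoc, ex.2.1, mul_inv_cancel_right]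
        · rw [inv_mul_eq_iff_eq_mul, ← mul_assoc, ex.2.2, mul_inv_cancel_right]
    exact fun a => ⟨1, Subtype.ext (by rw [pow_one, SubgroupClass.coe_pow]; exact (hall a a.2).1)⟩
  haveI := hA.isNilpotent
  have hAsol : Group.IsSolvable A := inferInstance
  have hAK : A ≤ normalizer (K : Set G) := (closure_le _).2 (by rintro x (rfl | rfl) <;> assumption)
  have hcop : (Nat.card A).Coprime (Nat.card K) := by
    obtain ⟨e, he⟩ := IsPGroup.iff_card.1 hA
    rw [he]
    exact (hp.out.coprime_iff_not_dvd.2 hpK).pow_left e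
  have hCA : K ⊓ centralizer (A : Set G) = ⊥ := by
    rw [eq_bot_iff]
    intro c hc
    have h1 := hfpf 1 1 (fun h => hp.out.ne_one (Nat.dvd_one.1 h)) (fun h => hp.out.ne_one (Nat.dvd_one.1 h))
    rw [← h1]
    have hsm : s ∈ A := subset_closure (Or.inl rfl)
    have htm : t ∈ A := subset_closure (Or.inr rfl)
    exact ⟨hc.1, mem_centralizer_singleton_iff.2 (mem_centralizer_iff.1 hc.2 _
      (mul_mem (pow_mem hsm 1) (pow_mem htm 1))).symm⟩
  have hdisj : ∀ c, c ∈ K ⊓ centralizer ({s} : Set G) → c ∈ K ⊓ centralizer ({t} : Set G) → c = 1 := by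
    intro c h1 h2
    refine mem_bot.1 (hCA ▸ (show c ∈ K ⊓ centralizer (A : Set G) from ⟨h1.1, mem_centralizer_iff.2 fun a ha => ?_⟩))
    refine (mem_centralizer_singleton_iff.1 ((closure_le (centralizer ({c} : Set G))).2 ?_ ha))
    rintro z (rfl | rfl) <;> rw [SetLike.mem_coe, mem_centralizer_singleton_iff]
    · exact (mem_centralizer_singleton_iff.1 h1.2).symm
    · exact (mem_centralizer_singleton_iff.1 h2.2).symm
  have hcomm : ∀ a ∈ A, a * s = s * a ∧ a * t = t * a := by
    intro a ha
    refine ⟨mem_centralizer_singleton_iff.1 ((closure_le (centralizer ({s} : Set G))).2 ?_ ha),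
      mem_centralizer_singleton_iff.1 ((closure_le (centralizer ({t} : Set G))).2 ?_ ha)⟩ <;>
    · rintro z (rfl | rfl) <;> rw [SetLike.mem_coe, mem_centralizer_singleton_iff] <;>
        first | rfl | exact hst | exact hst.symm
  refine Nat.eq_of_factorization_eq Nat.card_pos.ne' (mul_ne_zero Nat.card_pos.ne' Nat.card_pos.ne') fun q => ?_
  by_cases hq : q.Prime
  swap
  · rw [Nat.factorization_eq_zero_of_not_prime _ hq, Nat.factorization_eq_zero_of_not_prime _ hq]
  haveI := Fact.mk hq
  obtain ⟨P, hP⟩ := CfsgLib.Core.exists_invariant_sylow hAK hcop (Or.inl hAsol) q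
  set Q := (P : Subgroup K).map K.subtype with hQ
  have hQK : Q ≤ K := map_subtype_le _
  have hQcard : Nat.card Q = q ^ (Nat.card K).factorization q := by
    rw [hQ, card_map_of_injective K.subtype_injective]; exact P.card_eq_multiplicity
  have hpart : ∀ e : G, (∀ a ∈ A, a * e = e * a) →
      Nat.card (Q ⊓ centralizer ({e} : Set G) : Subgroup G) =
        q ^ (Nat.card (K ⊓ centralizer ({e} : Set G) : Subgroup G)).factorization q := by
    intro e he
    set U := K ⊓ centralizer ({e} : Set G) with hU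
    have hAU : A ≤ normalizer (U : Set G) := fun a ha => mem_normalizer_iff.2 fun x =>
      ⟨conj_mem_of_commute (hAK ha) (he a ha), fun hx => by
        have := conj_mem_of_commute (hAK (inv_mem ha)) (he _ (inv_mem ha)) hx
        rw [inv_inv, show a⁻¹ * (a * x * a⁻¹) * a = x by group] at this
        exact this⟩
    obtain ⟨R, hR⟩ := CfsgLib.Core.exists_invariant_sylow hAU
      (hcop.coprime_dvd_right (card_dvd_of_le inf_le_left)) (Or.inl hAsol) q
    obtain ⟨P', hle, hP'⟩ := CfsgLib.Core.exists_invariant_sylow_ge hAK hcop (Or.inl hAsol)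
      ((map_subtype_le _).trans inf_le_left) (R.isPGroup'.map _) hR
    obtain ⟨c, hc, hcP⟩ := CfsgLib.Core.invariant_sylow_conj hAK hcop (Or.inl hAsol) P P' hP hP'
    rw [show c = 1 from Subtype.ext (mem_bot.1 (hCA ▸ (⟨c.2, hc⟩ : (c : G) ∈ K ⊓ centralizer (A : Set G)))),
      one_smul] at hcP
    rw [← hcP] at hle
    have hRle : (R : Subgroup U).map U.subtype ≤ Q ⊓ centralizer ({e} : Set G) :=
      le_inf hle ((map_subtype_le _).trans inf_le_right)
    have hRcard : Nat.card ((R : Subgroup U).map U.subtype) = q ^ (Nat.card U).factorization q := by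
      rw [card_map_of_injective U.subtype_injective]; exact R.card_eq_multiplicity
    refine le_antisymm (Nat.le_of_dvd (pow_pos hq.pos _) ?_) (hRcard ▸ card_le_of_le hRle)
    obtain ⟨n, hn⟩ := IsPGroup.iff_card.1
      ((P.isPGroup'.map K.subtype).to_le (inf_le_left : Q ⊓ centralizer ({e} : Set G) ≤ Q))
    rw [hn]
    refine Nat.pow_dvd_pow q ((hq.pow_dvd_iff_le_factorization Nat.card_pos.ne').1 (hn ▸ ?_))
    exact card_dvd_of_le (inf_le_inf_right _ hQK)
  have hQp : IsPGroup q Q := P.isPGroup'.map _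
  haveI := hQp.isNilpotent
  by_cases hqp : q = p
  · subst hqp
    rw [Nat.factorization_eq_zero_of_not_dvd hpK, Nat.factorization_eq_zero_of_not_dvd]
    intro h
    rcases hq.dvd_mul.1 h with h | h <;> exact hpK (h.trans (card_dvd_of_le inf_le_left))
  have hsQ : s ∈ normalizer (Q : Set G) := hP (subset_closure (Or.inl rfl))
  have htQ : t ∈ normalizer (Q : Set G) := hP (subset_closure (Or.inr rfl))
  have hfac := factor hs ht hst _ Q rfl inferInstance (fun h => hpK (h.trans (card_dvd_of_le hQK))) hsQ htQ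
    (fun i j hi hj => le_bot_iff.1 ((inf_le_inf_right _ hQK).trans (hfpf i j hi hj).le))
  let g : (Q ⊓ centralizer ({s} : Set G) : Subgroup G) × (Q ⊓ centralizer ({t} : Set G) : Subgroup G) → Q :=
    fun x => ⟨(x.1 : G) * x.2, mul_mem x.1.2.1 x.2.2.1⟩
  have hg : Function.Bijective g := by
    refine ⟨?_, fun k => ?_⟩
    · rintro ⟨a, b⟩ ⟨a', b'⟩ e
      have e' : (a : G) * b = a' * b' := congrArg Subtype.val e
      have h1 : (a' : G)⁻¹ * a = b' * (b : G)⁻¹ := by
        rw [inv_mul_eq_iff_eq_mul, ← mul_assoc, eq_mul_inv_iff_mul_eq]; exact e'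
      have h2 : (a' : G)⁻¹ * a = 1 := hdisj _
        (inf_le_inf_right _ hQK (mul_mem (inv_mem a'.2) a.2))
        (h1 ▸ inf_le_inf_right _ hQK (mul_mem b'.2 (inv_mem b.2)))
      refine Prod.ext (Subtype.ext (inv_mul_eq_one.1 h2).symm) (Subtype.ext ?_)
      rw [h2, eq_comm, mul_inv_eq_one] at h1
      exact h1.symm
    · obtain ⟨a, ha, b, hb, e⟩ := hfac k k.2
      exact ⟨(⟨a, ha⟩, ⟨b, hb⟩), Subtype.ext e.symm⟩
  have hcard := Nat.card_eq_of_bijective g hg
  rw [Nat.card_prod, hQcard, hpart s fun a ha => (hcomm a ha).1, hpart t fun a ha => (hcomm a ha).2,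
    ← pow_add] at hcard
  rw [Nat.factorization_mul Nat.card_pos.ne' Nat.card_pos.ne', Finsupp.add_apply]
  exact (Nat.pow_right_injective hq.two_le hcard).symm

end CfsgLib.ONanTI.Formula
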