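import Mathlib.GroupTheory.GroupAction.Quotient
import Mathlib.GroupTheory.PGroup
import Mathlib.GroupTheory.Sylow
import Mathlib.Data.Set.Card

/-!
Owner: helper4.  O'Nan's theorem, the last configuration of part A (for helper5's Setting): the TI family is
`N x = F x ⋊ W` with `W` of prime order and `F x` semiregular.  Basic facts and the linear space of the sets `Fix W`.
-/

set_option autoImplicit false
set_option linter.all false

open MulAction Subgroup

namespace CfsgLib.ONanTI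

/-- A TI family of point groups `F x ⋊ W`, `W` of prime order `p`, `F x` semiregular off `x`. -/
structure FW (G X : Type*) [Group G] [MulAction G X] (p : ℕ) where
  N : X → Subgroup G
  F : X → Subgroup G
  prime : p.Prime
  conjN : ∀ (g : G) (x : X) (a : G), a ∈ N x → g * a * g⁻¹ ∈ N (g • x)
  conjF : ∀ (g : G) (x : X) (a : G), a ∈ F x → g * a * g⁻¹ ∈ F (g • x)
  fixes : ∀ (x : X) (a : G), a ∈ N x → a • x = x
  twoTrans : ∀ a b c d : X, a ≠ b → c ≠ d → ∃ g : G, g • a = c ∧ g • b = d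
  ti : ∀ x y : X, x ≠ y → N x ⊓ N y = ⊥
  F_le : ∀ x, F x ≤ N x
  F_ne : ∀ x, F x ≠ ⊥
  not_dvd : ∀ x, ¬ p ∣ Nat.card (F x)
  card_N : ∀ x, Nat.card (N x) = Nat.card (F x) * p
  card_W : ∀ x y : X, y ≠ x → Nat.card (N x ⊓ stabilizer G y : Subgroup G) = p
  semireg : ∀ x y : X, y ≠ x → F x ⊓ stabilizer G y = ⊥
  fpf : ∀ x y : X, y ≠ x → ∀ w ∈ N x, w • y = y → w ≠ 1 → ∀ c ∈ F x, w * c = c * w → c = 1

namespace FW

variable {G X : Type*} [Group G] [MulAction G X] {p : ℕ} (S : FW G X p)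

/-- `N x` meet the stabiliser of `y`. -/
def W (x y : X) : Subgroup G := S.N x ⊓ stabilizer G y

/-- The fixed points of `W x y`. -/
def L (x y : X) : Set X := fixedPoints (S.W x y) X

theorem mem_W {x y : X} {a : G} : a ∈ S.W x y ↔ a ∈ S.N x ∧ a • y = y := Iff.rfl

theorem mem_L {x y q : X} : q ∈ S.L x y ↔ ∀ a ∈ S.W x y, a • q = q :=
  ⟨fun h a ha => h ⟨a, ha⟩, fun h a => h a a.2⟩

theorem left_mem_L (x y : X) : x ∈ S.L x y := S.mem_L.2 fun a ha => S.fixes x a ha.1

theorem right_mem_L (x y : X) : y ∈ S.L x y := S.mem_L.2 fun a ha => ha.2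

include S in
theorem conj_N {g a : G} {x : X} (hg : g • x = x) (ha : a ∈ S.N x) : g * a * g⁻¹ ∈ S.N x := by
  simpa [hg] using S.conjN g x a ha

include S in
theorem conj_F {g a : G} {x : X} (hg : g • x = x) (ha : a ∈ S.F x) : g * a * g⁻¹ ∈ S.F x := by
  simpa [hg] using S.conjF g x a ha

theorem conj_W {g a : G} {x y : X} (ha : a ∈ S.W x y) : g * a * g⁻¹ ∈ S.W (g • x) (g • y) := by
  refine ⟨S.conjN g x a ha.1, ?_⟩
  show (g * a * g⁻¹) • g • y = g • y
  rw [mul_smul, mul_smul, inv_smul_smul, (ha.2 : a • y = y)]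

theorem mem_L_smul (g : G) {x y q : X} : g • q ∈ S.L (g • x) (g • y) ↔ q ∈ S.L x y := by
  rw [S.mem_L, S.mem_L]
  refine ⟨fun h a ha => ?_, fun h a ha => ?_⟩
  · have := h _ (S.conj_W (g := g) ha)
    rwa [mul_smul, mul_smul, inv_smul_smul, smul_left_cancel_iff] at this
  · have h1 := S.conj_W (g := g⁻¹) ha
    rw [inv_smul_smul, inv_smul_smul, inv_inv] at h1
    have := h _ h1
    rw [mul_smul, mul_smul, inv_smul_eq_iff] at this
    exact this

theorem ne_one_F {x : X} : ∃ c ∈ S.F x, c ≠ 1 := by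
  by_contra h
  push Not at h
  exact S.F_ne x ((Subgroup.eq_bot_iff_forall _).2 h)

theorem eq_one_of_fix {x y : X} (h : y ≠ x) {c : G} (hc : c ∈ S.F x) (hy : c • y = y) : c = 1 :=
  mem_bot.1 (S.semireg x y h ▸ (⟨hc, hy⟩ : c ∈ S.F x ⊓ stabilizer G y))

theorem eq_one_of_mem {x y : X} (h : x ≠ y) {a : G} (hx : a ∈ S.N x) (hy : a ∈ S.N y) : a = 1 :=
  mem_bot.1 (S.ti x y h ▸ (⟨hx, hy⟩ : a ∈ S.N x ⊓ S.N y))

/-- The centraliser of a non-identity element of `N x` fixes `x`. -/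
theorem fix_of_commute {x : X} {a g : G} (ha : a ∈ S.N x) (ha1 : a ≠ 1) (hc : g * a = a * g) :
    g • x = x := by
  by_contra hne
  refine ha1 (S.eq_one_of_mem hne ?_ ha)
  have := S.conjN g x a ha
  rwa [hc, mul_inv_cancel_right] at this

/-- `W x y` and `W y x` commute. -/
theorem commute_W {x y : X} (h : x ≠ y) {a b : G} (ha : a ∈ S.W x y) (hb : b ∈ S.W y x) :
    a * b = b * a := by
  have h1 : a * b * a⁻¹ * b⁻¹ ∈ S.N x := by
    have := mul_mem ha.1 (S.conj_N (show b • x = x from hb.2) (inv_mem ha.1))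
    rwa [← mul_assoc, ← mul_assoc] at this
  have h2 : a * b * a⁻¹ * b⁻¹ ∈ S.N y := mul_mem (S.conj_N ha.2 hb.1) (inv_mem hb.1)
  have h3 := S.eq_one_of_mem h h1 h2
  rw [mul_inv_eq_one, mul_inv_eq_iff_eq_mul] at h3
  exact h3

theorem W_ne {x y : X} (h : y ≠ x) : ∃ a ∈ S.W x y, a ≠ 1 := by
  by_contra hc
  push Not at hc
  have := S.card_W x y h
  rw [show S.N x ⊓ stabilizer G y = ⊥ from (Subgroup.eq_bot_iff_forall _).2 hc, card_bot] at this
  exact S.prime.one_lt.ne this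

theorem pow_W {x y : X} (h : y ≠ x) {a : G} (ha : a ∈ S.W x y) : a ^ p = 1 := by
  have := (Subgroup.orderOf_mk a ha).symm ▸ orderOf_dvd_natCard (⟨a, ha⟩ : S.W x y)
  rw [show Nat.card (S.W x y) = p from S.card_W x y h] at this
  exact orderOf_dvd_iff_pow_eq_one.1 this

theorem W_zpowers {x y : X} (h : y ≠ x) {a : G} (ha : a ∈ S.W x y) (ha1 : a ≠ 1) :
    S.W x y = zpowers a := by
  haveI := Fact.mk S.prime
  refine le_antisymm (fun b hb => ?_) (zpowers_le.2 ha)
  obtain ⟨i, hi⟩ := mem_zpowers_iff.1 (mem_zpowers_of_prime_card (G := S.W x y) (p := p)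
    (S.card_W x y h) (g := ⟨a, ha⟩) (g' := ⟨b, hb⟩) (fun e => ha1 (congrArg Subtype.val e)))
  exact ⟨i, congrArg Subtype.val hi⟩

variable [Finite G]

theorem W_eq {x y q : X} (hy : y ≠ x) (hq : q ≠ x) (hmem : q ∈ S.L x y) : S.W x q = S.W x y := by
  refine (eq_of_le_of_card_ge (H := S.W x y) (K := S.W x q) (fun a ha => ⟨ha.1, S.mem_L.1 hmem a ha⟩) ?_).symm
  rw [show Nat.card (S.W x q) = p from S.card_W x q hq, show Nat.card (S.W x y) = p from S.card_W x y hy]

/-- The `F x`-orbit of a point meets a line through `x` at most once. -/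
theorem meet_unique {x y q : X} (hy : y ≠ x) (hq : q ≠ x) {c : G} (hc : c ∈ S.F x) (h : q ∈ S.L x y)
    (hcq : c • q ∈ S.L x y) : c = 1 := by
  obtain ⟨w, hw, hw1⟩ := S.W_ne hy
  have hd : w * c * w⁻¹ * c⁻¹ ∈ S.F x := mul_mem (S.conj_F (S.fixes x w hw.1) hc) (inv_mem hc)
  have hcx : c • q ≠ x := fun e => hq (smul_left_cancel c (e.trans (S.fixes x c (S.F_le x hc)).symm))
  have h1 : (w * c * w⁻¹ * c⁻¹) • c • q = c • q := by
    rw [mul_smul, mul_smul, mul_smul, inv_smul_smul,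
      inv_smul_eq_iff.2 (S.mem_L.1 h w hw).symm, S.mem_L.1 hcq w hw]
  have h2 := S.eq_one_of_fix hcx hd h1
  rw [mul_inv_eq_one, mul_inv_eq_iff_eq_mul] at h2
  exact S.fpf x y hy w hw.1 hw.2 hw1 c hc h2

/-- The `F x`-orbit of a point meets every line through `x`. -/
theorem meet {x y q : X} (hy : y ≠ x) (hq : q ≠ x) : ∃ c ∈ S.F x, c • q ∈ S.L x y := by
  classical
  haveI := Fact.mk S.prime
  let WN : Subgroup (S.N x) := (S.W x y).subgroupOf (S.N x)
  let QN : Subgroup (S.N x) := (S.W x q).subgroupOf (S.N x)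
  have hcard : ∀ z, z ≠ x → Nat.card ((S.W x z).subgroupOf (S.N x)) = p := fun z hz => by
    rw [Nat.card_congr (subgroupOfEquivOfLe (show S.W x z ≤ S.N x from inf_le_left)).toEquiv]
    exact S.card_W x z hz
  have hpg : ∀ z, z ≠ x → IsPGroup p ((S.W x z).subgroupOf (S.N x)) := fun z hz =>
    IsPGroup.of_card (n := 1) (by rw [pow_one]; exact hcard z hz)
  have hidx : ∀ z, z ≠ x → ¬ p ∣ ((S.W x z).subgroupOf (S.N x)).index := fun z hz hd => by
    have h := card_mul_index ((S.W x z).subgroupOf (S.N x))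
    rw [hcard z hz, S.card_N x, mul_comm (Nat.card (S.F x))] at h
    exact S.not_dvd x (Nat.eq_of_mul_eq_mul_left S.prime.pos h ▸ hd)
  obtain ⟨g, hg⟩ := MulAction.exists_smul_eq (S.N x)
    ((hpg q hq).toSylow (hidx q hq)) ((hpg y hy).toSylow (hidx y hy))
  -- split `g` along `W x y`
  obtain ⟨w, hw, c, hc, hgc⟩ : ∃ w ∈ S.W x y, ∃ c ∈ S.F x, (g : G) = w * c := by
    have hFn : ∀ a ∈ S.W x y, ∀ c ∈ S.F x, a * c * a⁻¹ ∈ S.F x := fun a ha c hc =>
      S.conj_F (S.fixes x a ha.1) hc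
    let f : S.W x y × S.F x → S.N x := fun t =>
      ⟨(t.1 : G) * t.2, mul_mem t.1.2.1 (S.F_le x t.2.2)⟩
    have hinj : Function.Injective f := by
      rintro ⟨a, c⟩ ⟨b, d⟩ e
      have e' : (a : G) * c = b * d := congrArg Subtype.val e
      have h1 : (b : G)⁻¹ * a = d * (c : G)⁻¹ := by
        rw [inv_mul_eq_iff_eq_mul, ← mul_assoc, eq_mul_inv_iff_mul_eq]; exact e'
      have h2 : (b : G)⁻¹ * a = 1 := S.eq_one_of_fix hy
        (h1 ▸ mul_mem d.2 (inv_mem c.2)) ((mul_mem (inv_mem b.2) a.2).2)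
      refine Prod.ext (Subtype.ext (inv_mul_eq_one.1 h2).symm) (Subtype.ext ?_)
      rw [h2, eq_comm, mul_inv_eq_one] at h1
      exact h1.symm
    have hbij : Function.Bijective f := (Nat.bijective_iff_injective_and_card f).2 ⟨hinj, by
      rw [Nat.card_prod, show Nat.card (S.W x y) = p from S.card_W x y hy, S.card_N x, mul_comm]⟩
    obtain ⟨⟨a, c⟩, e⟩ := hbij.2 g
    exact ⟨a, a.2, c, c.2, (congrArg Subtype.val e).symm⟩
  refine ⟨c, hc, S.mem_L.2 fun b hb => ?_⟩
  have hb' : (w * b * w⁻¹) ∈ S.W x y := mul_mem (mul_mem hw hb) (inv_mem hw)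
  have hmem : (⟨w * b * w⁻¹, hb'.1⟩ : S.N x) ∈ WN := mem_subgroupOf.2 hb'
  have hQ : WN = QN.map (MulAut.conj g).toMonoidHom := by
    have h := congrArg (fun P : Sylow p (S.N x) => (P : Subgroup (S.N x))) hg
    rw [Sylow.coe_subgroup_smul] at h
    exact h.symm
  rw [hQ] at hmem
  obtain ⟨⟨a, haN⟩, ha, hab⟩ := hmem
  have haq : a • q = q := (mem_subgroupOf.1 ha).2
  have hab' : (g : G) * a * (g : G)⁻¹ = w * b * w⁻¹ := congrArg Subtype.val hab
  rw [hgc] at hab'
  have hbeq : b = c * a * c⁻¹ := by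
    calc b = w⁻¹ * (w * b * w⁻¹) * w := by group
      _ = _ := by rw [← hab']; group
  rw [hbeq, mul_smul, mul_smul, inv_smul_smul, haq]

theorem ncard_L {x y z q : X} (h : x ≠ y) (h' : z ≠ q) : (S.L z q).ncard = (S.L x y).ncard := by
  obtain ⟨g, rfl, rfl⟩ := S.twoTrans x y z q h h'
  refine (Set.ncard_congr (fun r _ => g • r) (fun r hr => (S.mem_L_smul g).2 hr)
    (fun a b _ _ e => smul_left_cancel g e) fun r hr => ⟨g⁻¹ • r, ?_, smul_inv_smul g r⟩).symm
  exact (S.mem_L_smul g).1 (by rwa [smul_inv_smul])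

variable [Finite X]

/-- The lines through two of their points coincide. -/
theorem L_swap_of_mem {x y z : X} (hy : y ≠ x) (hz : z ∈ S.L x y) (hzx : z ≠ x) :
    S.L z x = S.L x y := by
  refine (Set.eq_of_subset_of_ncard_le (fun q hq => S.mem_L.2 fun b hb => ?_)
    (S.ncard_L hy.symm hzx).le (Set.toFinite _)).symm
  by_cases hqx : q = x
  · rw [hqx]; exact hb.2
  by_cases hqz : q = z
  · rw [hqz]; exact S.fixes z b hb.1
  -- `w` centralises `W z q`
  obtain ⟨w, hw, hw1⟩ := S.W_ne hy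
  obtain ⟨v, hv, hv1⟩ := S.W_ne hqz
  have hwz := S.mem_L.1 hz w hw
  have hwq := S.mem_L.1 hq w hw
  haveI := Fact.mk S.prime
  letI : MulAction (zpowers w) (S.W z q) :=
    { smul := fun a t => ⟨(a : G) * t * (a : G)⁻¹, by
        obtain ⟨i, hi⟩ := mem_zpowers_iff.1 a.2
        have h1 := S.conj_W (g := (a : G)) t.2
        rwa [show (a : G) • z = z from hi ▸ (zpow_mem (show w ∈ stabilizer G z from hwz) i :),
          show (a : G) • q = q from hi ▸ (zpow_mem (show w ∈ stabilizer G q from hwq) i :)] at h1⟩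
      one_smul := fun t => Subtype.ext (by show ((1 : zpowers w) : G) * t * _ = t; simp)
      mul_smul := fun a b t => Subtype.ext (by
        show ((a * b : zpowers w) : G) * t * _ = (a : G) * ((b : G) * t * (b : G)⁻¹) * (a : G)⁻¹
        rw [Subgroup.coe_mul]; group) }
  have hpg : IsPGroup p (zpowers w) := IsPGroup.of_card (n := 1) (by
    rw [pow_one, Nat.card_zpowers, orderOf_eq_prime (S.pow_W hy hw) hw1])
  obtain ⟨t, ht, ht1⟩ := hpg.exists_fixed_point_of_prime_dvd_card_of_fixed_point (S.W z q)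
    (by rw [show Nat.card (S.W z q) = p from S.card_W z q hqz]) (a := (1 : S.W z q))
    (fun a => Subtype.ext (by show (a : G) * ((1 : S.W z q) : G) * (a : G)⁻¹ = ((1 : S.W z q) : G); simp))
  have hcw : w * (t : G) * w⁻¹ = t := congrArg Subtype.val (ht ⟨w, mem_zpowers w⟩)
  rw [mul_inv_eq_iff_eq_mul] at hcw
  have htx : (t : G) • x = x := S.fix_of_commute hw.1 hw1 hcw.symm
  have ht1' : (t : G) ≠ 1 := fun e => ht1 (Subtype.ext e.symm)
  have hle : S.W z x = S.W z q := by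
    refine (eq_of_le_of_card_ge (fun a ha => ?_) ?_).symm
    · rw [S.W_zpowers hqz t.2 ht1'] at ha
      exact zpowers_le.2 (show (t : G) ∈ S.W z x from ⟨t.2.1, htx⟩) ha
    · rw [show Nat.card (S.W z x) = p from S.card_W z x hzx.symm,
        show Nat.card (S.W z q) = p from S.card_W z q hqz]
  rw [hle] at hb
  exact hb.2

theorem L_comm {x y : X} (hy : y ≠ x) : S.L y x = S.L x y :=
  S.L_swap_of_mem hy (S.right_mem_L x y) hy

/-- The line through two points of a line. -/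
theorem L_eq {x y z q : X} (hy : y ≠ x) (hz : z ∈ S.L x y) (hq : q ∈ S.L x y) (hzq : q ≠ z) :
    S.L z q = S.L x y := by
  by_cases hzx : z = x
  · subst hzx
    unfold L
    rw [S.W_eq hy hzq hq]
  · have h1 := S.L_swap_of_mem hy hz hzx
    rw [← h1]
    unfold L
    rw [S.W_eq (fun e => hzx e.symm) hzq (h1.symm ▸ hq)]

end FW

end CfsgLib.ONanTI
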